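import Mathlib
import Cfsg.Agent.Helper9.J3Z.Main
import Cfsg.Agent.Helper9.J3O.Data

set_option autoImplicit false
set_option Elab.async false

/-! An involution of the 6156 points that preserves the graph, inverts the first letter and
normalizes the third group of Janko. -/

namespace Cfsg.Agent.Helper9.J3O

open Cfsg.Agent.Helper9.J3 Cfsg.Agent.Helper9.J3Z

/-- the image of a point under the involution of the points. -/
def uF (x : ℕ) : ℕ := lk13 uP x

/-- the check of the table of the involution of the points. -/
def uChk (x : ℕ) : Bool := andB (Nat.ble (uF x) 6155) (Nat.beq (sapp uF (uF x)) x)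

set_option maxRecDepth 1000000 in
theorem u_ok_b : allB uChk n = true := by decide +kernel

theorem uF_lt {x : ℕ} (hx : x < n) : uF x < n :=
  Nat.lt_succ_of_le (Nat.le_of_ble_eq_true (andB_true (allB_true u_ok_b hx)).1)

theorem uF_uF {x : ℕ} (hx : x < n) : uF (uF x) = x := by
  have h := (andB_true (allB_true u_ok_b hx)).2
  rw [sapp_eq] at h
  exact Nat.eq_of_beq_eq_true h

/-- the involution of the points. -/
def U : Equiv.Perm (Fin n) where
  toFun x := ⟨uF x.val, uF_lt x.isLt⟩
  invFun x := ⟨uF x.val, uF_lt x.isLt⟩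
  left_inv x := Fin.ext (uF_uF x.isLt)
  right_inv x := Fin.ext (uF_uF x.isLt)

theorem U_apply (x : Fin n) : (U x).val = uF x.val := rfl

theorem U_mul_self : U * U = 1 := by
  apply Equiv.ext
  intro x
  exact Fin.ext (uF_uF x.isLt)

theorem U_inv : U⁻¹ = U := inv_eq_of_mul_eq_one_right U_mul_self

set_option maxRecDepth 1000000 in
theorem autU_0 : allC (autAt uP) 0 513 = true := by decide +kernel

set_option maxRecDepth 1000000 in
theorem autU_1 : allC (autAt uP) 1 513 = true := by decide +kernel

set_option maxRecDepth 1000000 in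
theorem autU_2 : allC (autAt uP) 2 513 = true := by decide +kernel

set_option maxRecDepth 1000000 in
theorem autU_3 : allC (autAt uP) 3 513 = true := by decide +kernel

set_option maxRecDepth 1000000 in
theorem autU_4 : allC (autAt uP) 4 513 = true := by decide +kernel

set_option maxRecDepth 1000000 in
theorem autU_5 : allC (autAt uP) 5 513 = true := by decide +kernel

set_option maxRecDepth 1000000 in
theorem autU_6 : allC (autAt uP) 6 513 = true := by decide +kernel

set_option maxRecDepth 1000000 in
theorem autU_7 : allC (autAt uP) 7 513 = true := by decide +kernel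

set_option maxRecDepth 1000000 in
theorem autU_8 : allC (autAt uP) 8 513 = true := by decide +kernel

set_option maxRecDepth 1000000 in
theorem autU_9 : allC (autAt uP) 9 513 = true := by decide +kernel

set_option maxRecDepth 1000000 in
theorem autU_10 : allC (autAt uP) 10 513 = true := by decide +kernel

set_option maxRecDepth 1000000 in
theorem autU_11 : allC (autAt uP) 11 513 = true := by decide +kernel

theorem autU_all (v : ℕ) (hv : v < n) : autAt uP v = true := by
  refine allC_true (K := 12) (c := 513) ?_ hv
  intro k hk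
  interval_cases k
  · exact autU_0
  · exact autU_1
  · exact autU_2
  · exact autU_3
  · exact autU_4
  · exact autU_5
  · exact autU_6
  · exact autU_7
  · exact autU_8
  · exact autU_9
  · exact autU_10
  · exact autU_11

theorem U_isAut : IsAut U := by
  intro v
  have h2 : maskF (fun j => uF (nb v.val j)) 85 = maskF (nb (uF v.val)) 85 := by
    have h' := Nat.eq_of_beq_eq_true (autU_all v.val v.isLt)
    simp only [sapp_eq] at h'
    exact h'
  have hmap : (blk v.val).map (actN U) = (blk v.val).map uF := by
    apply List.map_congr_left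
    intro x hx
    change (U (toF x)).val = uF x
    rw [U_apply, toF_of_lt (blk_lt v.isLt hx)]
  rw [hmap, U_apply]
  have hnd1 : (blk (uF v.val)).Nodup := blk_nodup (uF_lt v.isLt)
  have hnd2 : ((blk v.val).map uF).Nodup := by
    apply List.Nodup.map_on _ (blk_nodup v.isLt)
    intro x hx y hy hxy
    have hx' := blk_lt v.isLt hx
    have hy' := blk_lt v.isLt hy
    rw [← uF_uF hx', ← uF_uF hy', hxy]
  rw [List.perm_ext_iff_of_nodup hnd1 hnd2]
  intro a
  rw [mem_blk, List.mem_map]
  constructor
  · intro ha
    obtain ⟨j, hj, hja⟩ := (maskF_eq_iff h2 a).2 ha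
    exact ⟨nb v.val j, mem_blk.2 ⟨j, hj, rfl⟩, hja⟩
  · rintro ⟨x, hx, hxa⟩
    obtain ⟨j, hj, rfl⟩ := mem_blk.1 hx
    exact (maskF_eq_iff h2 a).1 ⟨j, hj, hxa⟩

/-! ### products of elements of codes, powers of letters, conjugates -/

/-- the product of the elements of a list of codes. -/
def prodE (cs : List ℕ) : Equiv.Perm (Fin n) := (cs.map elt).prod

/-- the image of a point under the product of the elements of a list of codes. -/
def evE (cs : List ℕ) (p : ℕ) : ℕ := List.rec (motive := fun _ => ℕ) p (fun c _ acc => ev c acc) cs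

theorem evE_cons (c : ℕ) (cs : List ℕ) (p : ℕ) : evE (c :: cs) p = ev c (evE cs p) := rfl

theorem prodE_apply (cs : List ℕ) (p : Fin n) : (prodE cs p).val = evE cs p.val := by
  induction cs with
  | nil => rfl
  | cons c cs ih =>
    change ((elt c * prodE cs) p).val = _
    rw [Equiv.Perm.mul_apply, elt_apply, ih, evE_cons]

theorem prodE_mem (cs : List ℕ) : prodE cs ∈ G := by
  apply Subgroup.list_prod_mem
  intro x hx
  obtain ⟨c, -, rfl⟩ := List.mem_map.mp hx
  exact elt_mem c

theorem prodE_isAut (cs : List ℕ) : IsAut (prodE cs) := by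
  apply isAut_list_prod
  intro x hx
  obtain ⟨c, -, rfl⟩ := List.mem_map.mp hx
  exact elt_isAut c

/-- the image of a point under a power of a letter. -/
def itF (l k p : ℕ) : ℕ := Nat.rec p (fun _ acc => app l acc) k

theorem itF_succ (l k p : ℕ) : itF l (k + 1) p = app l (itF l k p) := rfl

theorem P_pow_apply {l : ℕ} (hl : l < 4) (k : ℕ) (p : Fin n) :
    ((P l ^ k) p).val = itF l k p.val := by
  induction k with
  | zero => rfl
  | succ k ih =>
    rw [pow_succ', Equiv.Perm.mul_apply, P_apply_lt hl, ih, itF_succ]

theorem conjU_apply {σ : Equiv.Perm (Fin n)} {f : ℕ → ℕ} (hf : ∀ p : Fin n, (σ p).val = f p.val)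
    (p : Fin n) : ((U * σ * U⁻¹) p).val = uF (f (uF p.val)) := by
  rw [U_inv, Equiv.Perm.mul_apply, Equiv.Perm.mul_apply, U_apply, hf, U_apply]

theorem conjU_isAut {σ : Equiv.Perm (Fin n)} (hσ : IsAut σ) : IsAut (U * σ * U⁻¹) :=
  isAut_mul (isAut_mul U_isAut hσ) (isAut_inv U_isAut)

theorem elt_one_eq : elt 1 = P 0 := mul_one _

theorem elt_129_eq : elt 129 = P 2 := mul_one _

theorem P2_eq : P 2 = (P 0)⁻¹ := P_linv 0 (by norm_num)

theorem isAut_pow {σ : Equiv.Perm (Fin n)} (h : IsAut σ) (k : ℕ) : IsAut (σ ^ k) := by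
  induction k with
  | zero => exact isAut_one
  | succ k ih =>
    rw [pow_succ]
    exact isAut_mul ih h

/-- the first letter has order nineteen. -/
theorem P0_pow : P 0 ^ 19 = 1 :=
  eq_of_eqB (f := itF 0 19) (g := fun p => p) (isAut_pow (P_isAut 0) 19) isAut_one
    (P_pow_apply (by norm_num) 19) (fun _ => rfl) (by decide +kernel)

theorem P0_ne_one : P 0 ≠ 1 := by
  intro h
  have h1 := eqB_of_eq (f := app 0) (g := fun p => p) (P_apply_lt (by norm_num)) (fun _ => rfl) h
  revert h1
  decide +kernel

theorem orderOf_P0 : orderOf (P 0) = 19 := by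
  have : Fact (Nat.Prime 19) := ⟨by norm_num⟩
  exact orderOf_eq_prime P0_pow P0_ne_one

/-- the involution of the points inverts the first letter. -/
theorem U_conj_P0 : U * P 0 * U⁻¹ = P 2 :=
  eq_of_eqB (f := fun p => uF (app 0 (uF p))) (g := app 2) (conjU_isAut (P_isAut 0)) (P_isAut 2)
    (conjU_apply (P_apply_lt (l := 0) (by norm_num))) (P_apply_lt (l := 2) (by norm_num))
    (by decide +kernel)

/-- an element normalizing the subgroup generated by the first letter. -/
theorem n_conj : elt nCode * P 0 * (elt nCode)⁻¹ = P 0 ^ 9 := by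
  refine eq_of_eqB (f := fun p => ev nCode (app 0 (evi nCode p))) (g := itF 0 9)
    (isAut_mul (isAut_mul (elt_isAut _) (P_isAut 0)) (isAut_inv (elt_isAut _)))
    (isAut_pow (P_isAut 0) 9) ?_ (P_pow_apply (by norm_num) 9) (by decide +kernel)
  intro p
  rw [Equiv.Perm.mul_apply, Equiv.Perm.mul_apply, elt_apply, P_apply_lt (by norm_num),
    elt_inv_apply]

end Cfsg.Agent.Helper9.J3O
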