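import Mathlib
import Cfsg.Agent.Helper9.J3O.Outer

set_option autoImplicit false
set_option Elab.async false

/-! The list of all 26163 involutions of the third group of Janko on 6156 points: each is conjugate
under a power of the first letter to one of 1377 representatives. -/

namespace Cfsg.Agent.Helper9.J3O

open Cfsg.Agent.Helper9.J3 Cfsg.Agent.Helper9.J3Z

/-- the code of the word conjugating the involution to a representative. -/
def repc (j : ℕ) : ℕ := lkF 32 4294967295 repP j

/-- the image of a point under a representative. -/
def repF (j p : ℕ) : ℕ := sapp (fun c => ev c (ev ct (evi c p))) (repc j)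

/-- the image of a point under the conjugate of a representative by a power of the first letter. -/
def yF (j i p : ℕ) : ℕ := itF 2 i (repF j (itF 0 i p))

/-- the signature of an involution. -/
def sigOf (j i : ℕ) : ℕ :=
  Nat.add (yF j i 0) (Nat.mul 8192 (Nat.add (yF j i 6) (Nat.mul 8192 (yF j i 1))))

/-- the entry of the sorted list. -/
def ent (k : ℕ) : ℕ := lkF 16 65535 lstP k

/-- the number of the representative of an entry. -/
def entJ (k : ℕ) : ℕ := Nat.shiftRight (ent k) 5

/-- the exponent of an entry. -/
def entI (k : ℕ) : ℕ := Nat.land (ent k) 31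

/-- the signature of an entry. -/
def sigK (k : ℕ) : ℕ := sapp (fun e => sigOf (Nat.shiftRight e 5) (Nat.land e 31)) (ent k)

theorem sigK_eq (k : ℕ) : sigK k = sigOf (entJ k) (entI k) := sapp_eq _ _

/-- the check that the signatures increase. -/
def stepChk (k : ℕ) : Bool :=
  orB (Nat.ble 26162 k) (Nat.ble (Nat.succ (sigK k)) (sigK (Nat.succ k)))

/-- the check of the range of the representatives. -/
def rngChk (k : ℕ) : Bool := Nat.ble (Nat.succ (entJ k)) 1377

set_option maxRecDepth 1000000 in
theorem rng_b : allB rngChk 26163 = true := by decide +kernel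

set_option maxRecDepth 1000000 in
theorem step_0 : allC stepChk 0 2013 = true := by decide +kernel

set_option maxRecDepth 1000000 in
theorem step_1 : allC stepChk 1 2013 = true := by decide +kernel

set_option maxRecDepth 1000000 in
theorem step_2 : allC stepChk 2 2013 = true := by decide +kernel

set_option maxRecDepth 1000000 in
theorem step_3 : allC stepChk 3 2013 = true := by decide +kernel

set_option maxRecDepth 1000000 in
theorem step_4 : allC stepChk 4 2013 = true := by decide +kernel

set_option maxRecDepth 1000000 in
theorem step_5 : allC stepChk 5 2013 = true := by decide +kernel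

set_option maxRecDepth 1000000 in
theorem step_6 : allC stepChk 6 2013 = true := by decide +kernel

set_option maxRecDepth 1000000 in
theorem step_7 : allC stepChk 7 2013 = true := by decide +kernel

set_option maxRecDepth 1000000 in
theorem step_8 : allC stepChk 8 2013 = true := by decide +kernel

set_option maxRecDepth 1000000 in
theorem step_9 : allC stepChk 9 2013 = true := by decide +kernel

set_option maxRecDepth 1000000 in
theorem step_10 : allC stepChk 10 2013 = true := by decide +kernel

set_option maxRecDepth 1000000 in
theorem step_11 : allC stepChk 11 2013 = true := by decide +kernel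

set_option maxRecDepth 1000000 in
theorem step_12 : allC stepChk 12 2013 = true := by decide +kernel

theorem step_all {k : ℕ} (hk : k < 26162) : sigK k < sigK (k + 1) := by
  have h : stepChk k = true := by
    refine allC_true (K := 13) (c := 2013) ?_ (by omega)
    intro i hi
    interval_cases i
    · exact step_0
    · exact step_1
    · exact step_2
    · exact step_3
    · exact step_4
    · exact step_5
    · exact step_6
    · exact step_7
    · exact step_8
    · exact step_9
    · exact step_10
    · exact step_11
    · exact step_12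
  rcases orB_true h with h1 | h1
  · have := Nat.le_of_ble_eq_true h1
    omega
  · exact Nat.lt_of_succ_le (Nat.le_of_ble_eq_true h1)

theorem entJ_lt {k : ℕ} (hk : k < 26163) : entJ k < 1377 :=
  Nat.lt_of_succ_le (Nat.le_of_ble_eq_true (allB_true rng_b hk))

/-! ### the elements -/

/-- the first letter as an element of the group. -/
def aG : ↥G := ⟨P 0, P_mem 0⟩

/-- the element conjugating the involution to a representative. -/
def cRep (j : ℕ) : ↥G := ⟨elt (repc j), elt_mem _⟩

/-- the representative. -/
def repG (j : ℕ) : ↥G := cRep j * tG * (cRep j)⁻¹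

/-- the conjugate of a representative by a power of the first letter. -/
def yG (j i : ℕ) : ↥G := (aG ^ i)⁻¹ * repG j * aG ^ i

theorem repG_apply (j : ℕ) (p : Fin n) :
    (((repG j : ↥G) : Equiv.Perm (Fin n)) p).val = repF j p.val := by
  change ((elt (repc j) * t0 * (elt (repc j))⁻¹) p).val = _
  rw [Equiv.Perm.mul_apply, Equiv.Perm.mul_apply, elt_apply, t0_apply, elt_inv_apply]
  unfold repF
  rw [sapp_eq]

theorem yG_apply (j i : ℕ) (p : Fin n) :
    (((yG j i : ↥G) : Equiv.Perm (Fin n)) p).val = yF j i p.val := by
  have h1 : ((yG j i : ↥G) : Equiv.Perm (Fin n)) =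
      P 2 ^ i * ((repG j : ↥G) : Equiv.Perm (Fin n)) * P 0 ^ i := by
    change (P 0 ^ i)⁻¹ * ((repG j : ↥G) : Equiv.Perm (Fin n)) * P 0 ^ i = _
    rw [P2_eq, inv_pow]
  rw [h1, Equiv.Perm.mul_apply, Equiv.Perm.mul_apply, P_pow_apply (by norm_num), repG_apply,
    P_pow_apply (by norm_num)]
  rfl

theorem order_tG : orderOf tG = 2 := by
  apply orderOf_eq_prime
  · rw [pow_two]
    exact Subtype.ext t0_sq
  · intro e
    exact t0_ne (congrArg Subtype.val e)

theorem order_conj {X : Type*} [Group X] (g x : X) : orderOf (g * x * g⁻¹) = orderOf x :=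
  (MulAut.conj g).orderOf_eq x

theorem order_repG (j : ℕ) : orderOf (repG j) = 2 := by
  unfold repG
  rw [order_conj, order_tG]

theorem order_yG (j i : ℕ) : orderOf (yG j i) = 2 := by
  have : yG j i = (aG ^ i)⁻¹ * repG j * ((aG ^ i)⁻¹)⁻¹ := by
    unfold yG
    rw [inv_inv]
  rw [this, order_conj, order_repG]

theorem sig_yG (j i : ℕ) : sigOf j i =
    (((yG j i : ↥G) : Equiv.Perm (Fin n)) (toF 0)).val +
      8192 * ((((yG j i : ↥G) : Equiv.Perm (Fin n)) (toF 6)).val +
        8192 * (((yG j i : ↥G) : Equiv.Perm (Fin n)) (toF 1)).val) := by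
  rw [yG_apply, yG_apply, yG_apply, toF_of_lt (by norm_num), toF_of_lt (by norm_num),
    toF_of_lt (by norm_num)]
  rfl

/-- the involution of an entry of the list. -/
def yK (k : ℕ) : ↥G := yG (entJ k) (entI k)

theorem yK_inj {k k' : ℕ} (hk : k < 26163) (hk' : k' < 26163) (h : yK k = yK k') : k = k' := by
  apply inj_of_step' (f := sigK) (m := 26163) ?_ hk hk'
  · rw [sigK_eq, sigK_eq, sig_yG, sig_yG]
    unfold yK at h
    rw [h]
  · intro j hj
    exact step_all (by omega)

/-! ### the number of the involutions -/

/-- orbit-stabilizer for the conjugation action. -/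
theorem card_class_mul {X : Type*} [Group X] [Finite X] (x : X) :
    Nat.card (Subgroup.centralizer ({x} : Set X)) * {y | ∃ g : X, g * x * g⁻¹ = y}.ncard =
      Nat.card X := by
  have h1 := Subgroup.card_mul_index (MulAction.stabilizer (ConjAct X) x)
  rw [MulAction.index_stabilizer] at h1
  have horb : MulAction.orbit (ConjAct X) x = {y | ∃ g : X, g * x * g⁻¹ = y} := by
    ext y
    constructor
    · rintro ⟨g, rfl⟩
      exact ⟨ConjAct.ofConjAct g, (ConjAct.smul_def g x).symm⟩
    · rintro ⟨g, rfl⟩
      exact ⟨ConjAct.toConjAct g, by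
        show ConjAct.toConjAct g • x = _
        rw [ConjAct.smul_def]
        rfl⟩
  rw [horb] at h1
  have hst : Nat.card (MulAction.stabilizer (ConjAct X) x) =
      Nat.card (Subgroup.centralizer ({x} : Set X)) := by
    apply Nat.card_congr
    exact
      { toFun := fun g => ⟨ConjAct.ofConjAct g.1, by
          have := g.2
          rw [MulAction.mem_stabilizer_iff, ConjAct.smul_def] at this
          rw [Subgroup.mem_centralizer_singleton_iff]
          exact mul_inv_eq_iff_eq_mul.mp this⟩
        invFun := fun c => ⟨ConjAct.toConjAct c.1, by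
          rw [MulAction.mem_stabilizer_iff, ConjAct.smul_def]
          exact mul_inv_eq_iff_eq_mul.mpr (Subgroup.mem_centralizer_singleton_iff.mp c.2)⟩
        left_inv := fun _ => rfl
        right_inv := fun _ => rfl }
  rw [hst] at h1
  exact h1

theorem card_involutions : Nat.card {y : ↥G // orderOf y = 2} = 26163 := by
  have h1 := card_class_mul tG
  rw [card_centralizer, card_G] at h1
  have h2 : {y : ↥G | ∃ g : ↥G, g * tG * g⁻¹ = y} = {y : ↥G | orderOf y = 2} := by
    ext y
    constructor
    · rintro ⟨g, rfl⟩
      change orderOf (g * tG * g⁻¹) = 2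
      rw [order_conj, order_tG]
    · intro hy
      obtain ⟨c, hc⟩ := isConj_iff.mp (conj_tG y hy)
      refine ⟨c⁻¹, ?_⟩
      rw [← hc]
      group
  rw [h2] at h1
  have h3 : Nat.card {y : ↥G // orderOf y = 2} = {y : ↥G | orderOf y = 2}.ncard := rfl
  rw [h3]
  omega

/-- every involution is in the list. -/
theorem exists_entry (y : ↥G) (hy : orderOf y = 2) : ∃ k, k < 26163 ∧ y = yK k := by
  let f : Fin 26163 → {y : ↥G // orderOf y = 2} := fun k => ⟨yK k.val, order_yG _ _⟩
  have hf : Function.Injective f := by
    intro k k' h
    exact Fin.ext (yK_inj k.isLt k'.isLt (congrArg Subtype.val h))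
  have hb : Function.Bijective f := by
    apply Function.Injective.bijective_of_nat_card_le hf
    rw [card_involutions, Nat.card_fin]
  obtain ⟨k, hk⟩ := hb.2 ⟨y, hy⟩
  exact ⟨k.val, k.isLt, (congrArg Subtype.val hk).symm⟩

/-- every involution is conjugate under a power of the first letter to a representative. -/
theorem exists_rep (y : ↥G) (hy : orderOf y = 2) :
    ∃ i : ℕ, ∃ j, j < 1377 ∧ aG ^ i * y * (aG ^ i)⁻¹ = repG j := by
  obtain ⟨k, hk, rfl⟩ := exists_entry y hy
  refine ⟨entI k, entJ k, entJ_lt hk, ?_⟩
  unfold yK yG
  group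

end Cfsg.Agent.Helper9.J3O
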