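import Mathlib
import Cfsg.Agent.Helper9.J3O.Invs

set_option autoImplicit false
set_option Elab.async false

/-! The involution of the points normalizes the third group of Janko on 6156 points; the
automorphism of the group that it induces; the group is generated by the first letter and an
involution. -/

namespace Cfsg.Agent.Helper9.J3O

open Cfsg.Agent.Helper9.J3 Cfsg.Agent.Helper9.J3Z

theorem isAut_mem {σ : Equiv.Perm (Fin n)} (h : σ ∈ G) : IsAut σ := by
  refine Subgroup.closure_induction (p := fun x _ => IsAut x) ?_ ?_ ?_ ?_ h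
  · rintro x ⟨l, rfl⟩
    exact P_isAut l.val
  · exact isAut_one
  · intro x y _ _ hx hy
    exact isAut_mul hx hy
  · intro x _ hx
    exact isAut_inv hx

/-- the second letter is a product of powers of the first letter and the involution. -/
theorem P1_eq : P 1 = prodE p1Atoms :=
  eq_of_eqB (f := app 1) (g := evE p1Atoms) (P_isAut 1) (prodE_isAut _)
    (P_apply_lt (l := 1) (by norm_num)) (prodE_apply _) (by decide +kernel)

theorem conjU_elt {c c' : ℕ} (h : eqB (fun p => uF (ev c (uF p))) (ev c') = true) :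
    U * elt c * U⁻¹ = elt c' :=
  eq_of_eqB (conjU_isAut (elt_isAut c)) (elt_isAut c') (conjU_apply (elt_apply c)) (elt_apply c') h

theorem conjU_5 : U * elt 5 * U⁻¹ = elt 43653 := conjU_elt (by decide +kernel)

theorem conjU_699015 : U * elt 699015 * U⁻¹ = elt 7 := conjU_elt (by decide +kernel)

theorem conjU_642 : U * elt 642 * U⁻¹ = elt 2 := conjU_elt (by decide +kernel)

theorem conjU_2 : U * elt 2 * U⁻¹ = elt 642 := conjU_elt (by decide +kernel)

theorem conjU_129 : U * elt 129 * U⁻¹ = elt 1 := conjU_elt (by decide +kernel)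

/-- the conjugate of the involution of the group by the involution of the points. -/
theorem conjU_t : U * t0 * U⁻¹ = ((yG 238 18 : ↥G) : Equiv.Perm (Fin n)) :=
  eq_of_eqB (f := fun p => uF (ev ct (uF p))) (g := yF 238 18) (conjU_isAut (elt_isAut ct))
    (isAut_mem (yG 238 18).2) (conjU_apply t0_apply) (yG_apply 238 18) (by decide +kernel)

theorem conjU_mul (x y : Equiv.Perm (Fin n)) :
    U * (x * y) * U⁻¹ = (U * x * U⁻¹) * (U * y * U⁻¹) := by group

theorem conjU_inv (x : Equiv.Perm (Fin n)) : U * x⁻¹ * U⁻¹ = (U * x * U⁻¹)⁻¹ := by group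

theorem conjU_prodE (cs : List ℕ) (h : ∀ c ∈ cs, U * elt c * U⁻¹ ∈ G) :
    U * prodE cs * U⁻¹ ∈ G := by
  induction cs with
  | nil =>
    change U * 1 * U⁻¹ ∈ G
    rw [mul_one, mul_inv_cancel]
    exact G.one_mem
  | cons c cs ih =>
    change U * (elt c * prodE cs) * U⁻¹ ∈ G
    rw [conjU_mul]
    exact G.mul_mem (h c List.mem_cons_self) (ih (fun c' hc' => h c' (List.mem_cons_of_mem _ hc')))

theorem conjU_P1 : U * P 1 * U⁻¹ ∈ G := by
  rw [P1_eq]
  apply conjU_prodE
  intro c hc
  have hc' : c = 5 ∨ c = 463182732 ∨ c = 699015 ∨ c = 642 ∨ c = 2 ∨ c = 129 := by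
    unfold p1Atoms at hc
    simp only [List.mem_cons, List.not_mem_nil, or_false] at hc
    omega
  rcases hc' with rfl | rfl | rfl | rfl | rfl | rfl
  · rw [conjU_5]
    exact elt_mem _
  · have : elt 463182732 = t0 := rfl
    rw [this, conjU_t]
    exact (yG 238 18).2
  · rw [conjU_699015]
    exact elt_mem _
  · rw [conjU_642]
    exact elt_mem _
  · rw [conjU_2]
    exact elt_mem _
  · rw [conjU_129]
    exact elt_mem _

/-- the involution of the points normalizes the group. -/
theorem conjU_mem {x : Equiv.Perm (Fin n)} (hx : x ∈ G) : U * x * U⁻¹ ∈ G := by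
  refine Subgroup.closure_induction (p := fun x _ => U * x * U⁻¹ ∈ G) ?_ ?_ ?_ ?_ hx
  · rintro x ⟨l, rfl⟩
    have hP0 : U * P 0 * U⁻¹ ∈ G := by
      rw [U_conj_P0]
      exact P_mem 2
    have key : ∀ k : ℕ, k < 4 → U * P k * U⁻¹ ∈ G := by
      intro k hk
      interval_cases k
      · exact hP0
      · exact conjU_P1
      · rw [P2_eq, conjU_inv]
        exact G.inv_mem hP0
      · have : P 3 = (P 1)⁻¹ := P_linv 1 (by norm_num)
        rw [this, conjU_inv]
        exact G.inv_mem conjU_P1
    exact key l.val l.isLt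
  · rw [mul_one, mul_inv_cancel]
    exact G.one_mem
  · intro x y _ _ hx hy
    rw [conjU_mul]
    exact G.mul_mem hx hy
  · intro x _ hx
    rw [conjU_inv]
    exact G.inv_mem hx

/-- conjugation by the involution of the points. -/
def tau : MulAut ↥G where
  toFun x := ⟨U * x.1 * U⁻¹, conjU_mem x.2⟩
  invFun x := ⟨U * x.1 * U⁻¹, conjU_mem x.2⟩
  left_inv x := by
    apply Subtype.ext
    change U * (U * x.1 * U⁻¹) * U⁻¹ = x.1
    rw [U_inv]
    have h := U_mul_self
    calc U * (U * x.1 * U) * U = (U * U) * x.1 * (U * U) := by group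
      _ = x.1 := by rw [h, one_mul, mul_one]
  right_inv x := by
    apply Subtype.ext
    change U * (U * x.1 * U⁻¹) * U⁻¹ = x.1
    rw [U_inv]
    have h := U_mul_self
    calc U * (U * x.1 * U) * U = (U * U) * x.1 * (U * U) := by group
      _ = x.1 := by rw [h, one_mul, mul_one]
  map_mul' x y := by
    apply Subtype.ext
    exact conjU_mul x.1 y.1

theorem tau_apply (x : ↥G) : ((tau x : ↥G) : Equiv.Perm (Fin n)) = U * x.1 * U⁻¹ := rfl

theorem aG_pow19 : aG ^ 19 = 1 := Subtype.ext P0_pow

theorem order_aG : orderOf aG = 19 := by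
  rw [← Subgroup.orderOf_coe]
  exact orderOf_P0

theorem aG_inv : aG⁻¹ = aG ^ 18 := by
  rw [inv_eq_iff_mul_eq_one, ← pow_succ', aG_pow19]

theorem tau_aG : tau aG = aG ^ 18 := by
  rw [← aG_inv]
  apply Subtype.ext
  rw [tau_apply]
  change U * P 0 * U⁻¹ = (P 0)⁻¹
  rw [U_conj_P0, P2_eq]

/-- the element normalizing the subgroup generated by the first letter. -/
def nG : ↥G := ⟨elt nCode, elt_mem _⟩

theorem conj_nG : nG * aG * nG⁻¹ = aG ^ 9 := Subtype.ext n_conj

/-- the group is generated by the first letter and the involution. -/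
theorem closure_aG_tG : Subgroup.closure ({aG, tG} : Set ↥G) = ⊤ := by
  rw [eq_top_iff]
  rintro ⟨x, hx⟩ -
  have ha : aG ∈ Subgroup.closure ({aG, tG} : Set ↥G) := Subgroup.subset_closure (by simp)
  have ht : tG ∈ Subgroup.closure ({aG, tG} : Set ↥G) := Subgroup.subset_closure (by simp)
  -- the elements of the group that lie in the closure
  let K : Subgroup (Equiv.Perm (Fin n)) :=
    (Subgroup.closure ({aG, tG} : Set ↥G)).map G.subtype
  change x ∈ G at hx
  have hK : G ≤ K := by
    have hP0 : P 0 ∈ K := ⟨aG, ha, rfl⟩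
    have hP2 : P 2 ∈ K := by
      rw [P2_eq]
      exact K.inv_mem hP0
    have ht0 : t0 ∈ K := ⟨tG, ht, rfl⟩
    have hpow : ∀ (l : ℕ), l < 4 → P l ∈ K → ∀ w len : ℕ, (∀ i, i < len → letP w i = l) →
        permP w len ∈ K := by
      intro l _ hl w len
      induction len with
      | zero =>
        intro _
        exact K.one_mem
      | succ len ih =>
        intro h
        change P (letP w len) * permP w len ∈ K
        rw [h len (Nat.lt_succ_self _)]
        exact K.mul_mem hl (ih (fun i hi => h i (Nat.lt_succ_of_lt hi)))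
    have hP1 : P 1 ∈ K := by
      rw [P1_eq]
      apply Subgroup.list_prod_mem
      intro y hy
      obtain ⟨c, hc, rfl⟩ := List.mem_map.mp hy
      have hc' : c = 5 ∨ c = 463182732 ∨ c = 699015 ∨ c = 642 ∨ c = 2 ∨ c = 129 := by
        unfold p1Atoms at hc
        simp only [List.mem_cons, List.not_mem_nil, or_false] at hc
        omega
      rcases hc' with rfl | rfl | rfl | rfl | rfl | rfl
      · exact hpow 0 (by norm_num) hP0 _ _ (by decide)
      · exact ht0
      · exact hpow 2 (by norm_num) hP2 _ _ (by decide)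
      · exact hpow 2 (by norm_num) hP2 _ _ (by decide)
      · exact hpow 0 (by norm_num) hP0 _ _ (by decide)
      · exact hpow 2 (by norm_num) hP2 _ _ (by decide)
    have hP3 : P 3 ∈ K := by
      have : P 3 = (P 1)⁻¹ := P_linv 1 (by norm_num)
      rw [this]
      exact K.inv_mem hP1
    refine (Subgroup.closure_le K).mpr ?_
    rintro y ⟨l, rfl⟩
    have key : ∀ k : ℕ, k < 4 → P k ∈ K := by
      intro k hk
      interval_cases k
      · exact hP0
      · exact hP1
      · exact hP2
      · exact hP3
    exact key l.val l.isLt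
  obtain ⟨y, hy, e⟩ := hK hx
  have : y = ⟨x, hx⟩ := Subtype.ext e
  rw [← this]
  exact hy

end Cfsg.Agent.Helper9.J3O
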