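import Mathlib
import Cfsg.Agent.Helper9.J3O.Norm
import Cfsg.Agent.Helper9.Out.OutLemma2

set_option autoImplicit false
set_option Elab.async false

/-! The representatives of the involutions are told apart from the involution by four relations; no
involution inverts or centralizes the first letter. -/

namespace Cfsg.Agent.Helper9.J3O

open Cfsg.Agent.Helper9.J3 Cfsg.Agent.Helper9.J3Z Cfsg.Agent.Helper9.OutL

/-- the image of a point under a word in the first letter and a second element. -/
def evW (g : ℕ → ℕ) (w : List Bool) (p : ℕ) : ℕ :=
  List.rec (motive := fun _ => ℕ) p (fun c _ acc => Bool.rec (g acc) (app 0 acc) c) w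

/-- the image of a point under a power. -/
def powF (f : ℕ → ℕ) (e p : ℕ) : ℕ := Nat.rec p (fun _ acc => f acc) e

theorem pow_apply_val {σ : Equiv.Perm (Fin n)} {f : ℕ → ℕ} (hf : ∀ p : Fin n, (σ p).val = f p.val)
    (e : ℕ) (p : Fin n) : ((σ ^ e) p).val = powF f e p.val := by
  induction e with
  | zero => rfl
  | succ e ih =>
    rw [pow_succ', Equiv.Perm.mul_apply, hf, ih]
    rfl

theorem evalW_apply {y : Equiv.Perm (Fin n)} {g : ℕ → ℕ} (hg : ∀ p : Fin n, (y p).val = g p.val)
    (w : List Bool) (p : Fin n) : ((evalW w (P 0) y) p).val = evW g w p.val := by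
  induction w with
  | nil => rfl
  | cons c w ih =>
    have h1 : evalW (c :: w) (P 0) y = (if c then P 0 else y) * evalW w (P 0) y := by
      unfold evalW
      rw [List.map_cons, List.prod_cons]
    rw [h1, Equiv.Perm.mul_apply]
    cases c
    · change (y _).val = g (evW g w p.val)
      rw [hg, ih]
    · change (P 0 _).val = app 0 (evW g w p.val)
      rw [P_apply_lt (by norm_num), ih]

theorem coe_evalW (w : List Bool) (x y : ↥G) :
    ((evalW w x y : ↥G) : Equiv.Perm (Fin n)) = evalW w x.1 y.1 := by
  induction w with
  | nil => rfl
  | cons c w ih =>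
    have h1 : evalW (c :: w) x y = (if c then x else y) * evalW w x y := by
      unfold evalW
      rw [List.map_cons, List.prod_cons]
    have h2 : evalW (c :: w) x.1 y.1 = (if c then x.1 else y.1) * evalW w x.1 y.1 := by
      unfold evalW
      rw [List.map_cons, List.prod_cons]
    rw [h1, h2, Subgroup.coe_mul, ih]
    cases c <;> rfl

/-- the check that a relation fails for a second element. -/
def relFails (g : ℕ → ℕ) (w : List Bool) (e : ℕ) : Bool :=
  notB (eqB (powF (evW g w) e) (fun p => p))

/-- a relation holds in terms of the images of the base. -/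
theorem eqB_of_rel {y : ↥G} {g : ℕ → ℕ}
    (hg : ∀ p : Fin n, ((y : Equiv.Perm (Fin n)) p).val = g p.val) (w : List Bool) (e : ℕ)
    (h : evalW w aG y ^ e = 1) : eqB (powF (evW g w) e) (fun p => p) = true := by
  have h1 : (evalW w (P 0) y.1) ^ e = 1 := by
    have := congrArg Subtype.val h
    rw [Subgroup.coe_pow, coe_evalW] at this
    exact this
  exact eqB_of_eq (pow_apply_val (evalW_apply hg w) e) (fun _ => rfl) h1

theorem rel_of_eqB {y : ↥G} {g : ℕ → ℕ}
    (hg : ∀ p : Fin n, ((y : Equiv.Perm (Fin n)) p).val = g p.val) (w : List Bool) (e : ℕ)
    (h : eqB (powF (evW g w) e) (fun p => p) = true) : evalW w aG y ^ e = 1 := by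
  apply Subtype.ext
  rw [Subgroup.coe_pow, coe_evalW]
  have hy : IsAut (evalW w (P 0) y.1) := by
    unfold evalW
    apply isAut_list_prod
    intro σ hσ
    obtain ⟨c, -, rfl⟩ := List.mem_map.mp hσ
    cases c
    · exact isAut_mem y.2
    · exact P_isAut 0
  exact eq_of_eqB (isAut_pow hy e) isAut_one (pow_apply_val (evalW_apply hg w) e) (fun _ => rfl) h

/-- the relations hold for the first letter and the involution. -/
theorem hrels : ∀ e ∈ relsL, evalW e.1 aG tG ^ e.2 = 1 := by
  intro e he
  have he' : e = ([true, false], 19) ∨ e = ([true, true, true, false], 10) ∨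
      e = ([true, true, false, true, true, true, false], 6) ∨
      e = ([true, false, true, true, false, true, true, true, true, false], 5) := by
    unfold relsL at he
    simpa using he
  rcases he' with rfl | rfl | rfl | rfl
  · exact rel_of_eqB (y := tG) t0_apply _ _ (by decide +kernel)
  · exact rel_of_eqB (y := tG) t0_apply _ _ (by decide +kernel)
  · exact rel_of_eqB (y := tG) t0_apply _ _ (by decide +kernel)
  · exact rel_of_eqB (y := tG) t0_apply _ _ (by decide +kernel)

/-- the check that a representative other than the involution fails a relation. -/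
def testChk (j : ℕ) : Bool :=
  orB (Nat.beq j 0)
    (orB (relFails (repF j) [true, false] 19)
      (orB (relFails (repF j) [true, true, true, false] 10)
        (orB (relFails (repF j) [true, true, false, true, true, true, false] 6)
          (relFails (repF j) [true, false, true, true, false, true, true, true, true, false] 5))))

set_option maxRecDepth 1000000 in
theorem test_b : allB testChk 1377 = true := by decide +kernel

/-- the check that a representative neither inverts nor centralizes the first letter. -/
def noinvChk (j : ℕ) : Bool :=
  andB (notB (eqB (fun p => repF j (app 0 (repF j p))) (app 2)))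
    (notB (eqB (fun p => repF j (app 0 (repF j p))) (app 0)))

set_option maxRecDepth 1000000 in
theorem noinv_b : allB noinvChk 1377 = true := by decide +kernel

end Cfsg.Agent.Helper9.J3O
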