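import Mathlib
import Cfsg.Prelude
import Cfsg.Agent.Helper9.J3O.Test

set_option autoImplicit false

/-! The outer automorphism group of the third group of Janko on 6156 points has two elements. -/

namespace Cfsg.Agent.Helper9.J3O

open Cfsg.Agent.Helper9.J3 Cfsg.Agent.Helper9.J3Z Cfsg.Agent.Helper9.OutL

/-- the representatives of the involutions. -/
def Cand : Set ↥G := {g | ∃ j, j < 1377 ∧ g = repG j}

theorem hCand (β : MulAut ↥G) : ∃ i : ℕ, aG ^ i * β tG * (aG ^ i)⁻¹ ∈ Cand := by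
  have h2 : orderOf (β tG) = 2 := by
    rw [MulEquiv.orderOf_eq]
    exact order_tG
  obtain ⟨i, j, hj, e⟩ := exists_rep _ h2
  exact ⟨i, j, hj, e⟩

theorem repG_zero : repG 0 = tG := by
  have h0 : repc 0 = 0 := by decide +kernel
  have h1 : cRep 0 = 1 := by
    apply Subtype.ext
    change elt (repc 0) = 1
    rw [h0]
    exact elt_zero
  unfold repG
  rw [h1, one_mul, inv_one, mul_one]

theorem htest : ∀ b' ∈ Cand, (∀ e ∈ relsL, evalW e.1 aG b' ^ e.2 = 1) →
    ∃ i : ℕ, b' = aG ^ i * tG * (aG ^ i)⁻¹ := by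
  rintro b' ⟨j, hj, rfl⟩ hr
  have hmem : ∀ e : List Bool × ℕ, e ∈ relsL → eqB (powF (evW (repF j) e.1) e.2) (fun p => p) = true :=
    fun e he => eqB_of_rel (y := repG j) (repG_apply j) e.1 e.2 (hr e he)
  have hcontra : ∀ (w : List Bool) (e : ℕ), (w, e) ∈ relsL → relFails (repF j) w e = true → False := by
    intro w e he hf
    have h1 := notB_true hf
    have h2 := hmem (w, e) he
    rw [h1] at h2
    exact Bool.false_ne_true h2
  rcases orB_true (allB_true test_b hj) with h0 | h1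
  · refine ⟨0, ?_⟩
    rw [Nat.eq_of_beq_eq_true h0, repG_zero, pow_zero, one_mul, inv_one, mul_one]
  · exfalso
    rcases orB_true h1 with h | h1
    · exact hcontra _ _ (by unfold relsL; simp) h
    rcases orB_true h1 with h | h1
    · exact hcontra _ _ (by unfold relsL; simp) h
    rcases orB_true h1 with h | h
    · exact hcontra _ _ (by unfold relsL; simp) h
    · exact hcontra _ _ (by unfold relsL; simp) h

/-! ### the automorphism is not inner -/

theorem conj_pow_parity {X : Type*} [Group X] (a d : X) (hd : d * a * d⁻¹ = a⁻¹) (k : ℕ) :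
    d ^ k * a * (d ^ k)⁻¹ = if Even k then a else a⁻¹ := by
  induction k with
  | zero => simp
  | succ k ih =>
    have e : d ^ (k + 1) * a * (d ^ (k + 1))⁻¹ = d * (d ^ k * a * (d ^ k)⁻¹) * d⁻¹ := by
      rw [pow_succ']
      group
    rw [e, ih]
    by_cases hk : Even k
    · rw [if_pos hk, if_neg (by rw [Nat.even_add_one]; exact not_not.mpr hk), hd]
    · rw [if_neg hk, if_pos (by rw [Nat.even_add_one]; exact hk)]
      have : d * a⁻¹ * d⁻¹ = (d * a * d⁻¹)⁻¹ := by group
      rw [this, hd, inv_inv]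

/-- when no involution inverts or centralizes an element, no element inverts it. -/
theorem no_inverting {X : Type*} [Group X] [Finite X] (a : X) (ha : a⁻¹ ≠ a)
    (h : ∀ y : X, orderOf y = 2 → y * a * y⁻¹ ≠ a⁻¹ ∧ y * a * y⁻¹ ≠ a) :
    ¬ ∃ d : X, d * a * d⁻¹ = a⁻¹ := by
  rintro ⟨d, hd⟩
  have hm : orderOf d ≠ 0 := (orderOf_pos d).ne'
  obtain ⟨s, q, hq, hmq⟩ := Nat.exists_eq_two_pow_mul_odd hm
  -- the part of order a power of two
  have hq0 : q ≠ 0 := by
    rintro rfl
    exact absurd hq (by decide)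
  have hqd : q ∣ orderOf d := ⟨2 ^ s, by rw [hmq, mul_comm]⟩
  have hoe : orderOf (d ^ q) = 2 ^ s := by
    rw [orderOf_pow_of_dvd hq0 hqd, hmq, Nat.mul_div_cancel _ (Nat.pos_of_ne_zero hq0)]
  have hinv : d ^ q * a * (d ^ q)⁻¹ = a⁻¹ := by
    rw [conj_pow_parity a d hd q, if_neg (Nat.not_even_iff_odd.mpr hq)]
  rcases Nat.lt_or_ge s 1 with hs | hs
  · -- the element has odd order
    have hs0 : s = 0 := by omega
    rw [hs0, pow_zero, orderOf_eq_one_iff] at hoe
    rw [hoe, one_mul, inv_one, mul_one] at hinv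
    exact ha hinv.symm
  rcases Nat.lt_or_ge s 2 with hs2 | hs2
  · have hs1 : s = 1 := by omega
    rw [hs1, pow_one] at hoe
    exact (h _ hoe).1 hinv
  · -- an involution that centralizes
    have h2 : 2 ^ (s - 1) ∣ orderOf (d ^ q) := by
      rw [hoe]
      exact pow_dvd_pow 2 (by omega)
    have hof : orderOf ((d ^ q) ^ 2 ^ (s - 1)) = 2 := by
      rw [orderOf_pow_of_dvd (by positivity) h2, hoe]
      have : 2 ^ s = 2 ^ (s - 1) * 2 := by
        rw [← pow_succ]
        congr 1
        omega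
      rw [this, Nat.mul_div_cancel_left _ (by positivity)]
    have hev : Even (2 ^ (s - 1)) := by
      rw [Nat.even_pow]
      exact ⟨even_two, by omega⟩
    have hc := conj_pow_parity a (d ^ q) hinv (2 ^ (s - 1))
    rw [if_pos hev] at hc
    exact (h _ hof).2 hc

theorem aG_inv_ne : aG⁻¹ ≠ aG := by
  intro h
  have h1 : aG ^ 2 = 1 := by
    rw [pow_two]
    nth_rewrite 1 [← h]
    exact inv_mul_cancel aG
  have h2 := orderOf_dvd_of_pow_eq_one h1
  rw [order_aG] at h2
  omega

theorem no_inv_aG : ∀ y : ↥G, orderOf y = 2 → y * aG * y⁻¹ ≠ aG⁻¹ ∧ y * aG * y⁻¹ ≠ aG := by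
  intro y hy
  obtain ⟨i, j, hj, e⟩ := exists_rep y hy
  -- the representative neither inverts nor centralizes
  have hb := andB_true (allB_true noinv_b hj)
  have hrinv : (repG j)⁻¹ = repG j := by
    rw [inv_eq_iff_mul_eq_one, ← pow_two, ← order_repG j]
    exact pow_orderOf_eq_one _
  have hfun : ∀ p : Fin n, (((repG j * aG * (repG j)⁻¹ : ↥G) : Equiv.Perm (Fin n)) p).val =
      repF j (app 0 (repF j p.val)) := by
    intro p
    rw [hrinv]
    change (((repG j : ↥G) : Equiv.Perm (Fin n)) (P 0 (((repG j : ↥G) : Equiv.Perm (Fin n)) p))).val = _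
    rw [repG_apply, P_apply_lt (by norm_num), repG_apply]
  have hr1 : repG j * aG * (repG j)⁻¹ ≠ aG⁻¹ := by
    intro h
    have h1 := eqB_of_eq (f := fun p => repF j (app 0 (repF j p))) (g := app 2) (τ := P 2) hfun
      (P_apply_lt (by norm_num)) (by
      have := congrArg Subtype.val h
      rw [this]
      change (P 0)⁻¹ = P 2
      exact P2_eq.symm)
    rw [notB_true hb.1] at h1
    exact Bool.false_ne_true h1
  have hr2 : repG j * aG * (repG j)⁻¹ ≠ aG := by
    intro h
    have h1 := eqB_of_eq (f := fun p => repF j (app 0 (repF j p))) (g := app 0) (τ := P 0) hfun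
      (P_apply_lt (by norm_num)) (congrArg Subtype.val h)
    rw [notB_true hb.2] at h1
    exact Bool.false_ne_true h1
  -- transport along the power of the first letter
  have hy' : y = (aG ^ i)⁻¹ * repG j * aG ^ i := by
    rw [← e]
    group
  have key : y * aG * y⁻¹ = (aG ^ i)⁻¹ * (repG j * aG * (repG j)⁻¹) * aG ^ i := by
    rw [hy']
    have hc : aG ^ i * aG = aG * aG ^ i := (Commute.pow_self aG i).eq
    calc (aG ^ i)⁻¹ * repG j * aG ^ i * aG * ((aG ^ i)⁻¹ * repG j * aG ^ i)⁻¹
        = (aG ^ i)⁻¹ * repG j * (aG ^ i * aG * (aG ^ i)⁻¹) * (repG j)⁻¹ * aG ^ i := by group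
      _ = (aG ^ i)⁻¹ * repG j * aG * (repG j)⁻¹ * aG ^ i := by
        rw [hc, mul_inv_cancel_right]
      _ = _ := by group
  constructor
  · intro h
    apply hr1
    rw [key] at h
    have : repG j * aG * (repG j)⁻¹ =
        aG ^ i * ((aG ^ i)⁻¹ * (repG j * aG * (repG j)⁻¹) * aG ^ i) * (aG ^ i)⁻¹ := by group
    rw [this, h]
    have hc : aG ^ i * aG⁻¹ = aG⁻¹ * aG ^ i := ((Commute.pow_self aG i).inv_right).eq
    rw [hc, mul_inv_cancel_right]
  · intro h
    apply hr2
    rw [key] at h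
    have : repG j * aG * (repG j)⁻¹ =
        aG ^ i * ((aG ^ i)⁻¹ * (repG j * aG * (repG j)⁻¹) * aG ^ i) * (aG ^ i)⁻¹ := by group
    rw [this, h]
    have hc : aG ^ i * aG = aG * aG ^ i := (Commute.pow_self aG i).eq
    rw [hc, mul_inv_cancel_right]

theorem tau_not_inner : ¬ ∃ d : ↥G, tau = MulAut.conj d := by
  rintro ⟨d, hd⟩
  apply no_inverting aG aG_inv_ne no_inv_aG
  refine ⟨d, ?_⟩
  rw [← MulAut.conj_apply, ← hd, tau_aG, aG_inv]

theorem hK0aux : ∀ k < 19, 0 < k → ∃ j < 9, ∃ k0 ∈ [1, 18], (k * 9 ^ j) % 19 = k0 % 19 := by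
  decide

theorem hK0 : ∀ k, 0 < k → k < 19 → ∃ j : ℕ, ∃ k0 ∈ [1, 18], (k * 9 ^ j) % 19 = k0 % 19 := by
  intro k h0 h19
  obtain ⟨j, -, h⟩ := hK0aux k h19 h0
  exact ⟨j, h⟩

theorem not_dvd_card : ¬ 19 ^ 2 ∣ Nat.card ↥G := by
  rw [card_G]
  decide

/-- the outer automorphism group has two elements. -/
theorem out_card : Nat.card (Cfsg.Out ↥G) = 2 := by
  have : Fact (Nat.Prime 19) := ⟨by norm_num⟩
  apply card_out_eq_two tau tau_not_inner
  intro α
  exact inner_or_tau 19 aG tG nG 9 closure_aG_tG order_aG not_dvd_card conj_nG tau 18 18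
    tau_aG (by norm_num) hK0 Cand hCand relsL hrels htest α

/-- isomorphic groups have outer automorphism groups of the same order. -/
theorem card_out_congr {X Y : Type*} [Group X] [Group Y] (e : X ≃* Y) :
    Nat.card (Cfsg.Out X) = Nat.card (Cfsg.Out Y) := by
  let φ : MulAut X ≃* MulAut Y := MulAut.congr e
  have hφ : ∀ (α : MulAut X) (y : Y), φ α y = e (α (e.symm y)) := fun _ _ => rfl
  have h : Cfsg.Inn X = (Cfsg.Inn Y).comap φ.toMonoidHom := by
    ext α
    rw [Subgroup.mem_comap]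
    constructor
    · rintro ⟨g, rfl⟩
      refine ⟨e g, ?_⟩
      apply MulEquiv.ext
      intro y
      change _ = φ (MulAut.conj g) y
      rw [hφ, MulAut.conj_apply, MulAut.conj_apply, map_mul, map_mul, map_inv,
        MulEquiv.apply_symm_apply]
    · rintro ⟨k, hk⟩
      refine ⟨e.symm k, ?_⟩
      apply MulEquiv.ext
      intro x
      have h1 := congrArg (fun f : MulAut Y => f (e x)) hk
      change MulAut.conj k (e x) = φ α (e x) at h1
      rw [hφ, MulEquiv.symm_apply_apply, MulAut.conj_apply] at h1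
      rw [MulAut.conj_apply]
      apply e.injective
      rw [← h1, map_mul, map_mul, map_inv, MulEquiv.apply_symm_apply]
  change (Cfsg.Inn X).index = (Cfsg.Inn Y).index
  rw [h, Subgroup.index_comap_of_surjective _ φ.surjective]

end Cfsg.Agent.Helper9.J3O
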